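import Groth.Agent.Lib.DescInt13.GodCoh
import Groth.Agent.Lib.CmpSit16.Classes
import Mathlib.Algebra.Homology.ShortComplex.Ab
import Mathlib.Algebra.Homology.Additive

/-!
# Étale cohomology from the sections of a complex of injectives given by syzygies
-/

set_option autoImplicit false
set_option linter.style.haveILetI false
set_option backward.isDefEq.respectTransparency false
set_option backward.isDefEq.respectTransparency.types false

universe u v' u'

open CategoryTheory CategoryTheory.Limits AlgebraicGeometry Opposite Abelian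
open Groth.Agent.CmpSit16 (Syz)

noncomputable section

namespace Groth.Agent.FppfDescSS5

section Generic

variable {A : Type u'} [Category.{v'} A] [Abelian A] (c : Syz A)

/-- The complex of the injective terms. -/
def cx : CochainComplex A ℕ :=
  CochainComplex.of c.I (fun q => c.p q ≫ c.i (q + 1)) fun q => by
    rw [Category.assoc, ← Category.assoc (c.i (q + 1)), c.w (q + 1), zero_comp, comp_zero]

theorem cx_d (q : ℕ) : (cx c).d q (q + 1) = c.p q ≫ c.i (q + 1) :=
  CochainComplex.of_d (fun q => c.I q) (fun q => c.p q ≫ c.i (q + 1)) q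

variable (G : A ⥤ AddCommGrpCat.{u + 1}) [G.Additive] [PreservesFiniteLimits G]

theorem injective_map_i (j : ℕ) : Function.Injective (G.map (c.i j)) := by
  haveI : Mono (c.i j) := (c.shortExact j).mono_f
  exact (AddCommGrpCat.mono_iff_injective _).1 inferInstance

theorem map_p_eq_zero_iff (j : ℕ) (x : G.obj (c.I j)) :
    G.map (c.p j) x = 0 ↔ ∃ s, G.map (c.i j) s = x := by
  have h := (G.preservesFiniteLimits_iff_forall_exact_map_and_mono.1 inferInstance _ (c.shortExact j)).1
  refine ⟨fun hx => (ShortComplex.ab_exact_iff _).1 h x hx, ?_⟩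
  rintro ⟨s, rfl⟩
  rw [← ConcreteCategory.comp_apply, ← G.map_comp, c.w, G.map_zero]
  rfl

theorem map_d_eq_zero_iff (j : ℕ) (x : G.obj (c.I j)) :
    G.map ((cx c).d j (j + 1)) x = 0 ↔ ∃ s, G.map (c.i j) s = x := by
  rw [cx_d, G.map_comp, ConcreteCategory.comp_apply, ← map_p_eq_zero_iff c G j x]
  exact ⟨fun h => injective_map_i c G (j + 1) (h.trans (map_zero _).symm), fun h => (congrArg _ h).trans (map_zero _)⟩

/-- The homology of the sections in degree zero. -/
theorem nonempty_homology_zero :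
    Nonempty (((G.mapHomologicalComplex _).obj (cx c)).homology 0 ≅ G.obj (c.S 0)) := by
  let K := (G.mapHomologicalComplex _).obj (cx c)
  let φ : G.obj (c.S 0) →+ (K.sc' 0 0 1).g.hom.ker :=
    (G.map (c.i 0)).hom.codRestrict _ fun s => (map_d_eq_zero_iff c G 0 _).2 ⟨s, rfl⟩
  have hφ : Function.Bijective φ := ⟨fun s t h => injective_map_i c G 0 (congrArg Subtype.val h),
    fun ⟨x, hx⟩ => by
      obtain ⟨s, rfl⟩ := (map_d_eq_zero_iff c G 0 x).1 hx
      exact ⟨s, rfl⟩⟩
  have hr : (K.sc' 0 0 1).abToCycles.range = ⊥ := by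
    rw [eq_bot_iff]
    rintro _ ⟨y, rfl⟩
    refine AddSubgroup.mem_bot.2 (Subtype.ext ?_)
    show K.d 0 0 y = 0
    rw [K.shape _ _ (by simp)]
    rfl
  exact ⟨K.homologyIsoSc' 0 0 1 (by simp) (by simp) ≪≫ (K.sc' 0 0 1).abHomologyIso ≪≫
    (AddEquiv.toAddCommGrpIso (X := AddCommGrpCat.of _)
      (((QuotientAddGroup.quotientAddEquivOfEq hr).trans QuotientAddGroup.quotientBot).trans
        (AddEquiv.ofBijective φ hφ).symm))⟩

/-- The homology of the sections in positive degrees. -/
theorem nonempty_homology_succ (m : ℕ) {H : Type (u + 1)} [AddCommGroup H]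
    (ψ : G.obj (c.S (m + 1)) →+ H) (hs : Function.Surjective ψ)
    (hk : ∀ s, ψ s = 0 ↔ ∃ y, G.map (c.p m) y = s) :
    Nonempty (((G.mapHomologicalComplex _).obj (cx c)).homology (m + 1) ≅ AddCommGrpCat.of H) := by
  let K := (G.mapHomologicalComplex _).obj (cx c)
  let S := K.sc' m (m + 1) (m + 2)
  let φ : G.obj (c.S (m + 1)) →+ S.g.hom.ker :=
    (G.map (c.i (m + 1))).hom.codRestrict _ fun s => (map_d_eq_zero_iff c G (m + 1) _).2 ⟨s, rfl⟩
  let q : G.obj (c.S (m + 1)) →+ S.g.hom.ker ⧸ S.abToCycles.range :=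
    (QuotientAddGroup.mk' _).comp φ
  have hq : Function.Surjective q := fun z => by
    obtain ⟨⟨x, hx⟩, rfl⟩ := QuotientAddGroup.mk'_surjective _ z
    obtain ⟨s, rfl⟩ := (map_d_eq_zero_iff c G (m + 1) x).1 hx
    exact ⟨s, rfl⟩
  have hd : ∀ y : G.obj (c.I m), K.d m (m + 1) y = G.map (c.i (m + 1)) (G.map (c.p m) y) := fun y => by
    show G.map ((cx c).d m (m + 1)) y = _
    rw [cx_d, G.map_comp]
    rfl
  have hker : q.ker = ψ.ker := by
    ext s
    constructor
    · intro h
      obtain ⟨y, hy⟩ := (QuotientAddGroup.eq_zero_iff _).1 h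
      have hy' : K.d m (m + 1) y = G.map (c.i (m + 1)) s := congrArg Subtype.val hy
      rw [hd] at hy'
      exact (hk s).2 ⟨y, injective_map_i c G (m + 1) hy'⟩
    · intro h
      obtain ⟨y, rfl⟩ := (hk s).1 h
      exact (QuotientAddGroup.eq_zero_iff _).2 ⟨y, Subtype.ext (hd y)⟩
  exact ⟨K.homologyIsoSc' m (m + 1) (m + 2) (by simp) (by simp) ≪≫ S.abHomologyIso ≪≫
    AddEquiv.toAddCommGrpIso (X := AddCommGrpCat.of _) (Y := AddCommGrpCat.of _)
      (((QuotientAddGroup.quotientKerEquivOfSurjective q hq).symm.trans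
        (QuotientAddGroup.quotientAddEquivOfEq hker)).trans
          (QuotientAddGroup.quotientKerEquivOfSurjective ψ hs))⟩

end Generic

section Etale

variable {T : Scheme.{u}}

/-- Sections at the top object. -/
abbrev secTop (T : Scheme.{u}) : EtCoh.Ab T ⥤ AddCommGrpCat.{u + 1} :=
  sheafToPresheaf _ _ ⋙ (evaluation _ AddCommGrpCat.{u + 1}).obj (op (EtCoh.top T))

/-- Maps out of the constant sheaf are sections. -/
def homSec (G : EtCoh.Ab T) : (EtCoh.const T ℤ ⟶ G) ≃+ (secTop T).obj G :=
  Ext.addEquiv₀.symm.trans (DescInt13.secEquiv G)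

theorem homSec_comp {G G' : EtCoh.Ab T} (a : EtCoh.const T ℤ ⟶ G) (φ : G ⟶ G') :
    homSec G' (a ≫ φ) = (secTop T).map φ (homSec G a) := by
  change DescInt13.secEquiv G' (Ext.mk₀ (a ≫ φ)) = (secTop T).map φ (DescInt13.secEquiv G (Ext.mk₀ a))
  rw [DescInt13.secEquiv_mk₀, DescInt13.secEquiv_mk₀]
  rfl

/-- Cohomology is the homology of the sections of the injective terms. -/
theorem nonempty_homology_H (c : Syz (EtCoh.Ab T)) : ∀ n : ℕ,
    Nonempty ((((secTop T).mapHomologicalComplex _).obj (cx c)).homology n ≅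
      AddCommGrpCat.of (EtCoh.H T (c.S 0) n))
  | 0 => ⟨(nonempty_homology_zero c (secTop T)).some ≪≫
      AddEquiv.toAddCommGrpIso (X := AddCommGrpCat.of _) (Y := AddCommGrpCat.of _)
        (DescInt13.secEquiv (c.S 0)).symm⟩
  | m + 1 => by
    let ψ : (secTop T).obj (c.S (m + 1)) →+ EtCoh.H T (c.S 0) (m + 1) :=
      AddMonoidHom.mk' (fun s => c.classOf _ m ((homSec _).symm s)) fun s t => by
        rw [map_add]
        exact c.classOf_add _ m _ _
    refine nonempty_homology_succ c (secTop T) m ψ ?_ ?_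
    · intro α
      obtain ⟨x, hx⟩ := c.surjective_classOf _ m α
      exact ⟨homSec _ x, by
        show c.classOf _ m ((homSec _).symm (homSec _ x)) = α
        rw [AddEquiv.symm_apply_apply]
        exact hx⟩
    · intro s
      refine (c.classOf_eq_zero_iff _ m _).trans ⟨?_, ?_⟩
      · rintro ⟨y, hy⟩
        exact ⟨homSec _ y, by rw [← homSec_comp, hy, AddEquiv.apply_symm_apply]⟩
      · rintro ⟨y, hy⟩
        refine ⟨(homSec _).symm y, (homSec _).injective ?_⟩
        rw [homSec_comp, AddEquiv.apply_symm_apply, AddEquiv.apply_symm_apply, hy]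

end Etale

end Groth.Agent.FppfDescSS5

end
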